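import Cfsg.Agent.H830.B57.Str

/-!
# S5717, linear part, N4: `card_stab` (helper86)
-/

set_option autoImplicit false

open Subgroup

namespace Cfsg.Agent.H86.B57

/-! ### abstract lemmas -/

section

variable {R : Type*} [Group R] [Finite R]

/-- few generators modulo a subgroup -/
theorem exists_gens : ∀ (k : ℕ) (A : Subgroup R), A.index ≤ k → ∃ T : Finset R, 2 ^ T.card ≤ A.index ∧
    A ⊔ closure (T : Set R) = ⊤ := by
  classical
  intro k
  induction k with
  | zero =>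
    intro A h
    exact absurd (Nat.le_zero.1 h) A.index_ne_zero_of_finite
  | succ k ih =>
    intro A h
    by_cases hA : A = ⊤
    · refine ⟨∅, ?_, ?_⟩
      · rw [hA, index_top]; simp
      · rw [hA]; simp
    · obtain ⟨x, hx⟩ : ∃ x, x ∉ A := by
        by_contra hc
        push Not at hc
        exact hA (eq_top_iff.2 fun y _ => hc y)
      set B := A ⊔ zpowers x with hB
      have hAB : A ≤ B := le_sup_left
      have hxB : x ∈ B := (le_sup_right : zpowers x ≤ B) (mem_zpowers x)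
      have h1 : A.relIndex B * B.index = A.index := relIndex_mul_index hAB
      have h2 : A.relIndex B ≠ 1 := by
        intro h3
        exact hx (relIndex_eq_one.1 h3 hxB)
      have h3 : A.relIndex B ≠ 0 := by
        intro h3
        rw [h3, zero_mul] at h1
        exact A.index_ne_zero_of_finite h1.symm
      have h4 : 2 * B.index ≤ A.index := by
        rw [← h1]
        exact Nat.mul_le_mul_right _ (by omega)
      have h5 : B.index ≠ 0 := B.index_ne_zero_of_finite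
      obtain ⟨T, hT, hT'⟩ := ih B (by omega)
      refine ⟨insert x T, ?_, ?_⟩
      · calc 2 ^ (insert x T).card ≤ 2 ^ (T.card + 1) := Nat.pow_le_pow_right (by norm_num) (Finset.card_insert_le _ _)
          _ = 2 * 2 ^ T.card := by rw [pow_succ, mul_comm]
          _ ≤ 2 * B.index := Nat.mul_le_mul_left _ hT
          _ ≤ A.index := h4
      · rw [eq_top_iff, ← hT', hB]
        refine sup_le (sup_le le_sup_left ?_) ?_
        · rw [zpowers_le]
          exact (le_sup_right : Subgroup.closure _ ≤ _) (Subgroup.subset_closure (by simp))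
        · refine le_trans (closure_mono ?_) le_sup_right
          intro y hy
          simp only [Finset.coe_insert, Set.mem_insert_iff]
          right; exact hy

/-- the number of solutions of `y ^ m = c`, `m` the index of a central cyclic subgroup -/
theorem card_roots (A : Subgroup R) (hc : ∀ a ∈ A, ∀ r : R, a * r = r * a) (hA : IsCyclic A) (c : R) :
    Nat.card {y : R // y ^ A.index = c} ≤ A.index * A.index := by
  classical
  have : Fintype R := Fintype.ofFinite R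
  have hm : 0 < A.index := Nat.pos_of_ne_zero A.index_ne_zero_of_finite
  have h1 : Nat.card {a : A // a ^ A.index = 1} ≤ A.index := by
    have : Fintype A := Fintype.ofFinite A
    have h2 := IsCyclic.card_pow_eq_one_le (α := A) hm
    rw [Nat.card_eq_fintype_card, Fintype.card_subtype]
    exact h2
  -- fibres over the cosets
  have h2 := Finset.card_le_mul_card_image (f := fun y : R => (QuotientGroup.mk y : R ⧸ A))
    (Finset.univ.filter fun y : R => y ^ A.index = c) A.index (by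
      intro b hb
      rw [Finset.mem_image] at hb
      obtain ⟨y₀, hy₀, rfl⟩ := hb
      rw [Finset.mem_filter] at hy₀
      refine le_trans ?_ h1
      rw [Nat.card_eq_fintype_card, ← Finset.card_univ]
      refine Finset.card_le_card_of_injOn (fun y => if h : y₀⁻¹ * y ∈ A ∧ (y₀⁻¹ * y) ^ A.index = 1 then
          ⟨⟨y₀⁻¹ * y, h.1⟩, Subtype.ext h.2⟩ else ⟨1, one_pow _⟩) (fun _ _ => Finset.mem_coe.2 (Finset.mem_univ _)) ?_
      have key : ∀ y ∈ (Finset.univ.filter fun y : R => y ^ A.index = c).filter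
          (fun y => (QuotientGroup.mk y : R ⧸ A) = QuotientGroup.mk y₀),
          y₀⁻¹ * y ∈ A ∧ (y₀⁻¹ * y) ^ A.index = 1 := by
        intro y hy
        rw [Finset.mem_filter, Finset.mem_filter] at hy
        obtain ⟨⟨-, hy1⟩, hy2⟩ := hy
        have h3 : y₀⁻¹ * y ∈ A := QuotientGroup.eq.1 hy2.symm
        refine ⟨h3, ?_⟩
        have h4 : y = y₀ * (y₀⁻¹ * y) := by group
        have h5 : Commute y₀ (y₀⁻¹ * y) := (hc _ h3 y₀).symm
        rw [h4, h5.mul_pow, hy₀.2] at hy1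
        exact mul_eq_left.1 hy1
      intro y hy z hz hyz
      have k1 := key y hy
      have k2 := key z hz
      simp only [dif_pos k1, dif_pos k2, Subtype.mk.injEq, mul_right_inj] at hyz
      exact hyz)
  rw [Nat.card_eq_fintype_card, Fintype.card_subtype]
  refine h2.trans (Nat.mul_le_mul_left _ ?_)
  rw [Subgroup.index, Nat.card_eq_fintype_card, ← Finset.card_univ]
  exact Finset.card_le_card (Finset.subset_univ _)

end

/-! ### arithmetic -/

theorem sq_le (L : ℕ) : (L + 1) ^ 2 ≤ 3 * 2 ^ L := by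
  induction L with
  | zero => norm_num
  | succ L ih =>
    rcases Nat.lt_or_ge L 2 with h | h
    · interval_cases L <;> norm_num
    · rw [pow_succ 2 L]
      have h1 : (L + 1 + 1) ^ 2 ≤ 2 * (L + 1) ^ 2 := by nlinarith
      omega

theorem arith {n m l t : ℕ} (hn : n ≠ 0) (hm : m ≤ n ^ 2) (hm0 : m ≠ 0) (hl : 2 ^ l ≤ m) (ht : 2 ^ (t - 1) ≤ n) :
    t ^ t * (m * m) ^ l ≤ 2 ^ (27 * n) := by
  set L := Nat.log 2 n with hL
  have h1 : 2 ^ L ≤ n := Nat.pow_log_le_self 2 hn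
  have h2 : n < 2 ^ (L + 1) := Nat.lt_pow_succ_log_self (by norm_num) n
  have h3 := sq_le L
  have h4 : m ≤ 2 ^ (2 * (L + 1)) := by
    calc m ≤ n ^ 2 := hm
      _ ≤ (2 ^ (L + 1)) ^ 2 := Nat.pow_le_pow_left h2.le 2
      _ = _ := by rw [← pow_mul, mul_comm]
  have h5 : l ≤ 2 * (L + 1) := (Nat.pow_le_pow_iff_right (by norm_num : 1 < 2)).1 (hl.trans h4)
  have h6 : t - 1 ≤ L := by
    have h7 : 2 ^ (t - 1) < 2 ^ (L + 1) := ht.trans_lt h2
    have := (Nat.pow_lt_pow_iff_right (by norm_num : 1 < 2)).1 h7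
    omega
  have h7 : t ≤ L + 1 := by omega
  have h8 : t ^ t ≤ 2 ^ ((L + 1) ^ 2) := by
    calc t ^ t ≤ (2 ^ t) ^ t := Nat.pow_le_pow_left Nat.lt_two_pow_self.le t
      _ = 2 ^ (t * t) := by rw [← pow_mul]
      _ ≤ 2 ^ ((L + 1) ^ 2) := Nat.pow_le_pow_right (by norm_num) (by nlinarith)
  have h9 : (m * m) ^ l ≤ 2 ^ (8 * (L + 1) ^ 2) := by
    calc (m * m) ^ l ≤ (2 ^ (2 * (L + 1)) * 2 ^ (2 * (L + 1))) ^ l :=
          Nat.pow_le_pow_left (Nat.mul_le_mul h4 h4) l
      _ ≤ (2 ^ (2 * (L + 1)) * 2 ^ (2 * (L + 1))) ^ (2 * (L + 1)) :=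
          Nat.pow_le_pow_right (by positivity) h5
      _ = 2 ^ (8 * (L + 1) ^ 2) := by rw [← pow_add, ← pow_mul]; congr 1; ring
  calc t ^ t * (m * m) ^ l ≤ 2 ^ ((L + 1) ^ 2) * 2 ^ (8 * (L + 1) ^ 2) := Nat.mul_le_mul h8 h9
    _ = 2 ^ (9 * (L + 1) ^ 2) := by rw [← pow_add]; congr 1; ring
    _ ≤ 2 ^ (27 * n) := Nat.pow_le_pow_right (by norm_num) (by omega)

/-! ### the theorem -/

section

variable {p : ℕ} [Fact p.Prime] {V : Type} [AddCommGroup V] [Module (ZMod p) V] [Finite V]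

/-- the number of elements which normalise all components and centralise `A` -/
theorem card_one {X A C R : Subgroup (V ≃ₗ[ZMod p] V)} {t : ℕ} {E : Fin t → Subgroup (V ≃ₗ[ZMod p] V)}
    (h : Cfsg.Agent.H830.B57.Str X A C R t E) (hA : IsCyclic A) {S : Subgroup (V ≃ₗ[ZMod p] V)} (hSC : S ≤ C)
    (hSA : S ⊓ A = ⊥) (hSE : ∀ x ∈ S, ∀ i, ∀ e ∈ E i, x * e = e * x) :
    ∃ l, 2 ^ l ≤ A.relIndex R ∧ Nat.card S ≤ (A.relIndex R * A.relIndex R) ^ l := by
  classical
  have hfin : Finite (V ≃ₗ[ZMod p] V) := Finite.of_injective (fun f : V ≃ₗ[ZMod p] V => (f : V → V)) DFunLike.coe_injective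
  have hAC : ∀ a ∈ A, ∀ x ∈ C, x * a = a * x := fun a ha x hx => ((h.Ceq x).1 hx).2 a ha
  set B : Subgroup ↥R := A.subgroupOf R with hB
  have hBA : B.index = A.relIndex R := rfl
  have hBc : ∀ a ∈ B, ∀ r : ↥R, a * r = r * a := by
    intro a ha r
    exact Subtype.ext (hAC _ (mem_subgroupOf.1 ha) _ (h.RC r.2)).symm
  have hBcyc : IsCyclic B := by
    have e := subgroupOfEquivOfLe h.AR
    exact isCyclic_of_surjective e.symm e.symm.surjective
  have hBn : B.Normal := ⟨fun a ha r => by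
    rw [← hBc a ha r, mul_inv_cancel_right]; exact ha⟩
  obtain ⟨T, hT, hT'⟩ := exists_gens B.index B le_rfl
  refine ⟨T.card, hT, ?_⟩
  -- conjugation
  have hRS : ∀ x ∈ S, ∀ y : ↥R, x * y * x⁻¹ ∈ R := fun x hx y => h.Rnorm x (h.CX (hSC hx)) y y.2
  let f : S → (∀ r : T, {y : ↥R // y ^ B.index = (r : ↥R) ^ B.index}) := fun x r =>
    ⟨⟨(x : V ≃ₗ[ZMod p] V) * ((r : ↥R) : V ≃ₗ[ZMod p] V) * (x : V ≃ₗ[ZMod p] V)⁻¹, hRS x x.2 r⟩, by
      apply Subtype.ext
      show ((x : V ≃ₗ[ZMod p] V) * ((r : ↥R) : V ≃ₗ[ZMod p] V) * (x : V ≃ₗ[ZMod p] V)⁻¹) ^ B.index =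
        ((r : ↥R) : V ≃ₗ[ZMod p] V) ^ B.index
      have h1 : ((r : ↥R) : V ≃ₗ[ZMod p] V) ^ B.index ∈ A := mem_subgroupOf.1 (B.pow_index_mem (r : ↥R))
      rw [conj_pow, hAC _ h1 _ (hSC x.2), mul_inv_cancel_right]⟩
  have hf : Function.Injective f := by
    intro x y hxy
    have h1 : ∀ r ∈ T, (x : V ≃ₗ[ZMod p] V) * (r : V ≃ₗ[ZMod p] V) * (x : V ≃ₗ[ZMod p] V)⁻¹ =
        (y : V ≃ₗ[ZMod p] V) * (r : V ≃ₗ[ZMod p] V) * (y : V ≃ₗ[ZMod p] V)⁻¹ := by
      intro r hr
      have h2 := congrFun hxy ⟨r, hr⟩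
      have h3 := congrArg (fun z : {y : ↥R // y ^ B.index = r ^ B.index} => ((z : ↥R) : V ≃ₗ[ZMod p] V)) h2
      exact h3
    set z : V ≃ₗ[ZMod p] V := (y : V ≃ₗ[ZMod p] V)⁻¹ * x with hz
    have hzS : z ∈ S := S.mul_mem (S.inv_mem y.2) x.2
    have h2 : (⊤ : Subgroup ↥R) ≤ (centralizer {z}).comap R.subtype := by
      rw [← hT']
      refine sup_le ?_ ?_
      · intro a ha
        rw [mem_comap, mem_centralizer_singleton_iff]
        exact (hAC _ (mem_subgroupOf.1 ha) _ (hSC hzS)).symm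
      · rw [closure_le]
        intro r hr
        show (R.subtype r) ∈ centralizer {z}
        rw [mem_centralizer_singleton_iff]
        have h3 := h1 r hr
        show (r : V ≃ₗ[ZMod p] V) * z = z * r
        rw [hz]
        have h4 : (x : V ≃ₗ[ZMod p] V) * (r : V ≃ₗ[ZMod p] V) =
            (y : V ≃ₗ[ZMod p] V) * (r : V ≃ₗ[ZMod p] V) * (y : V ≃ₗ[ZMod p] V)⁻¹ * x := by
          rw [← h3, inv_mul_cancel_right]
        rw [mul_assoc _ (x : V ≃ₗ[ZMod p] V), h4]
        group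
    have h3 : z ∈ A := by
      refine h.cent z (hSC hzS) (fun r hr => ?_) (fun i e he => hSE z hzS i e he)
      have h4 := h2 (mem_top (⟨r, hr⟩ : ↥R))
      rw [mem_comap, mem_centralizer_singleton_iff] at h4
      exact h4.symm
    have h4 : z ∈ S ⊓ A := ⟨hzS, h3⟩
    rw [hSA, mem_bot, hz, inv_mul_eq_one] at h4
    exact Subtype.ext h4.symm
  refine (Nat.card_le_card_of_injective f hf).trans ?_
  rw [Nat.card_pi]
  calc ∏ r : T, Nat.card {y : ↥R // y ^ B.index = (r : ↥R) ^ B.index} ≤ ∏ _r : T, (B.index * B.index) :=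
        Finset.prod_le_prod' fun r _ => card_roots B hBc hBcyc _
    _ = (A.relIndex R * A.relIndex R) ^ T.card := by
        rw [Finset.prod_const, Finset.card_univ, Fintype.card_coe, hBA]

/-- **S5717, linear part, N4** -/
theorem card_stab : ∃ K : ℕ, ∀ (p : ℕ) [Fact p.Prime] (V : Type) [AddCommGroup V] [Module (ZMod p) V] [Finite V]
    (X A C R : Subgroup (V ≃ₗ[ZMod p] V)) (t : ℕ) (E : Fin t → Subgroup (V ≃ₗ[ZMod p] V)),
    Cfsg.Agent.H830.B57.Str X A C R t E → IsCyclic A → 2 ^ (t - 1) ≤ Module.finrank (ZMod p) V →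
    A.relIndex R ≤ (Module.finrank (ZMod p) V) ^ 2 →
    ∀ S : Subgroup (V ≃ₗ[ZMod p] V), S ≤ C → S ⊓ A = ⊥ →
    (∀ x ∈ S, (∀ i, ∀ y, y ∈ E i ↔ x * y * x⁻¹ ∈ E i) → ∀ i, ∀ e ∈ E i, x * e = e * x) →
    Nat.card S ≤ Nat.card V ^ K := by
  classical
  refine ⟨27, ?_⟩
  intro p _ V _ _ _ X A C R t E h hA ht hm S hSC hSA hSE
  have hfin : Finite (V ≃ₗ[ZMod p] V) := Finite.of_injective (fun f : V ≃ₗ[ZMod p] V => (f : V → V)) DFunLike.coe_injective
  set n := Module.finrank (ZMod p) V with hn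
  have hn0 : n ≠ 0 := by
    intro h0
    rw [h0] at ht
    exact absurd ht (Nat.not_le.2 (by positivity))
  -- the subgroup normalising all components
  let S₁ : Subgroup (V ≃ₗ[ZMod p] V) :=
    { carrier := {x | x ∈ S ∧ ∀ i, ∀ y, y ∈ E i ↔ x * y * x⁻¹ ∈ E i}
      mul_mem' := by
        rintro a b ⟨ha, ha'⟩ ⟨hb, hb'⟩
        refine ⟨S.mul_mem ha hb, fun i y => ?_⟩
        rw [hb' i y, ha' i (b * y * b⁻¹)]
        have : a * (b * y * b⁻¹) * a⁻¹ = a * b * y * (a * b)⁻¹ := by group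
        rw [this]
      one_mem' := ⟨S.one_mem, fun i y => by simp⟩
      inv_mem' := by
        rintro a ⟨ha, ha'⟩
        refine ⟨S.inv_mem ha, fun i y => ?_⟩
        rw [ha' i (a⁻¹ * y * a⁻¹⁻¹)]
        have : a * (a⁻¹ * y * a⁻¹⁻¹) * a⁻¹ = y := by group
        rw [this] }
  have hS1 : S₁ ≤ S := fun x hx => hx.1
  obtain ⟨l, hl, hcard⟩ := card_one h hA (S := S₁) (hS1.trans hSC)
    (by rw [eq_bot_iff, ← hSA]; exact inf_le_inf_right _ hS1) (fun x hx i e he => hSE x hx.1 hx.2 i e he)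
  -- the permutation action
  have hperm : ∀ x : S, ∀ i, ∃ j, ∀ y, y ∈ E i ↔ (x : V ≃ₗ[ZMod p] V) * y * (x : V ≃ₗ[ZMod p] V)⁻¹ ∈ E j :=
    fun x i => h.Eperm x (h.CX (hSC x.2)) i
  choose π hπ using hperm
  have hSS : Nat.card S ≤ t ^ t * Nat.card S₁ := by
    have : Fintype S := Fintype.ofFinite S
    have h1 := Finset.card_le_mul_card_image (f := π) (Finset.univ : Finset S) (Nat.card S₁) (by
      intro b hb
      rw [Finset.mem_image] at hb
      obtain ⟨x₀, -, rfl⟩ := hb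
      have key : ∀ x : S, π x = π x₀ → (x₀ : V ≃ₗ[ZMod p] V)⁻¹ * x ∈ S₁ := by
        intro x hx
        refine ⟨S.mul_mem (S.inv_mem x₀.2) x.2, fun i y => ?_⟩
        rw [hπ x i y, hx, hπ x₀ i]
        have : (x₀ : V ≃ₗ[ZMod p] V) * ((x₀ : V ≃ₗ[ZMod p] V)⁻¹ * x * y * ((x₀ : V ≃ₗ[ZMod p] V)⁻¹ * x)⁻¹) *
            (x₀ : V ≃ₗ[ZMod p] V)⁻¹ = x * y * (x : V ≃ₗ[ZMod p] V)⁻¹ := by group
        rw [this]
      have : Fintype S₁ := Fintype.ofFinite S₁
      rw [Nat.card_eq_fintype_card, ← Finset.card_univ]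
      refine Finset.card_le_card_of_injOn (fun x => if h : π x = π x₀ then
          ⟨(x₀ : V ≃ₗ[ZMod p] V)⁻¹ * x, key x h⟩ else 1) (fun _ _ => Finset.mem_coe.2 (Finset.mem_univ _)) ?_
      intro x hx y hy hxy
      have hx' : π x = π x₀ := (Finset.mem_filter.1 hx).2
      have hy' : π y = π x₀ := (Finset.mem_filter.1 hy).2
      simp only [dif_pos hx', dif_pos hy', Subtype.mk.injEq, mul_right_inj] at hxy
      exact Subtype.ext hxy)
    rw [Finset.card_univ] at h1
    rw [Nat.card_eq_fintype_card, mul_comm]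
    refine h1.trans (Nat.mul_le_mul_left _ ?_)
    refine (Finset.card_le_card (Finset.subset_univ _)).trans ?_
    rw [Finset.card_univ, Fintype.card_fun, Fintype.card_fin]
  have hm0 : A.relIndex R ≠ 0 := (A.subgroupOf R).index_ne_zero_of_finite
  have hV : Nat.card V = p ^ n := by
    rw [Module.natCard_eq_pow_finrank (K := ZMod p), Nat.card_zmod]
  have h2p : 2 ≤ p := (Fact.out : p.Prime).two_le
  calc Nat.card S ≤ t ^ t * Nat.card S₁ := hSS
    _ ≤ t ^ t * (A.relIndex R * A.relIndex R) ^ l := Nat.mul_le_mul_left _ hcard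
    _ ≤ 2 ^ (27 * n) := arith hn0 hm hm0 hl ht
    _ ≤ p ^ (27 * n) := Nat.pow_le_pow_left h2p _
    _ = Nat.card V ^ 27 := by rw [hV, ← pow_mul, mul_comm]

end

end Cfsg.Agent.H86.B57
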